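import Mathlib

/-!
Double counting of totally isotropic planes.
-/

set_option autoImplicit false
set_option linter.unusedSectionVars false

namespace Cfsg.Agent.Lib.IsoLines

variable {F V : Type*} [Field F] [Finite F] [AddCommGroup V] [Module F V] [FiniteDimensional F V]

/-- Planes on which `f` vanishes. -/
def IsoPlane (f : V → V → F) (W : Submodule F V) : Prop :=
  Module.finrank F W = 2 ∧ ∀ u ∈ W, ∀ v ∈ W, f u v = 0

/-- Sesquilinearity in the weak form needed for counting. -/
structure Sesq (f : V → V → F) (τ : F → F) : Prop where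
  add_left : ∀ x x' y, f (x + x') y = f x y + f x' y
  smul_left : ∀ c x y, f (c • x) y = c * f x y
  add_right : ∀ x y y', f x (y + y') = f x y + f x y'
  smul_right : ∀ c x y, f x (c • y) = τ c * f x y

theorem natCard_not_mem (W : Submodule F V) (S : Submodule F V) (hS : S ≤ W) :
    Nat.card {w : V // w ∈ W ∧ w ∉ S} = Nat.card F ^ Module.finrank F W - Nat.card F ^ Module.finrank F S := by
  classical
  haveI : Finite V := Module.finite_of_finite F
  haveI : Fintype V := Fintype.ofFinite V
  rw [← Module.natCard_eq_pow_finrank (K := F), ← Module.natCard_eq_pow_finrank (K := F),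
    Nat.card_eq_fintype_card, Nat.card_eq_fintype_card, Nat.card_eq_fintype_card,
    Fintype.card_subtype, Fintype.card_subtype, Fintype.card_subtype]
  rw [← Finset.card_sdiff_of_subset (fun x hx => by simp at hx ⊢; exact hS hx)]
  congr 1
  ext x
  simp

variable {f : V → V → F} {τ : F → F}

/-- Planes through a point. -/
theorem natCard_through (h : Sesq f τ) {v : V} (hv : v ≠ 0) (hvv : f v v = 0) :
    Nat.card {W : Submodule F V // IsoPlane f W ∧ v ∈ W} * (Nat.card F ^ 2 - Nat.card F) =
      Nat.card {w : V // (f v w = 0 ∧ f w v = 0 ∧ f w w = 0) ∧ w ∉ (F ∙ v)} := by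
  classical
  haveI : Finite V := Module.finite_of_finite F
  haveI : Finite (Submodule F V) := Finite.of_injective _ SetLike.coe_injective
  haveI : Fintype {W : Submodule F V // IsoPlane f W ∧ v ∈ W} := Fintype.ofFinite _
  let e : (Σ W : {W : Submodule F V // IsoPlane f W ∧ v ∈ W}, {w : V // w ∈ W.1 ∧ w ∉ (F ∙ v)}) ≃
      {w : V // (f v w = 0 ∧ f w v = 0 ∧ f w w = 0) ∧ w ∉ (F ∙ v)} := by
    refine Equiv.ofBijective (fun p => ⟨p.2.1,
      ⟨p.1.2.1.2 _ p.1.2.2 _ p.2.2.1, p.1.2.1.2 _ p.2.2.1 _ p.1.2.2, p.1.2.1.2 _ p.2.2.1 _ p.2.2.1⟩,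
      p.2.2.2⟩) ⟨?_, ?_⟩
    · rintro ⟨⟨W, hW, hvW⟩, w, hwW, hwv⟩ ⟨⟨W', hW', hvW'⟩, w', hwW', hwv'⟩ heq
      have hw : w = w' := congrArg Subtype.val heq
      subst hw
      have hle : ∀ (X : Submodule F V), Module.finrank F X = 2 → v ∈ X → w ∈ X →
          X = Submodule.span F {v, w} := by
        intro X hX h1 h2
        symm
        refine Submodule.eq_of_le_of_finrank_le (Submodule.span_le.2 (by
          rintro x (rfl | rfl)
          · exact h1
          · exact h2)) ?_
        rw [hX]
        have hli : LinearIndependent F ![v, w] := by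
          rw [LinearIndependent.pair_iff' hv]
          intro a ha
          exact hwv (Submodule.mem_span_singleton.2 ⟨a, ha⟩)
        have := finrank_span_eq_card hli
        rw [Matrix.range_cons, Matrix.range_cons, Matrix.range_empty, Set.union_empty,
          Set.singleton_union, Fintype.card_fin] at this
        omega
      have : W = W' := (hle W hW.1 hvW hwW).trans (hle W' hW'.1 hvW' hwW').symm
      subst this
      rfl
    · rintro ⟨w, ⟨h1, h2, h3⟩, hwv⟩
      have hli : LinearIndependent F ![v, w] := by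
        rw [LinearIndependent.pair_iff' hv]
        intro a ha
        exact hwv (Submodule.mem_span_singleton.2 ⟨a, ha⟩)
      refine ⟨⟨⟨Submodule.span F (Set.range ![v, w]),
        ⟨by rw [finrank_span_eq_card hli]; simp, ?_⟩, Submodule.subset_span ⟨0, rfl⟩⟩, w,
        Submodule.subset_span ⟨1, rfl⟩, hwv⟩, rfl⟩
      intro x hx y hy
      rw [Submodule.mem_span_range_iff_exists_fun] at hx hy
      obtain ⟨a, rfl⟩ := hx
      obtain ⟨b, rfl⟩ := hy
      simp [Fin.sum_univ_two, h.add_left, h.add_right, h.smul_left, h.smul_right, hvv, h1, h2, h3]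
  rw [← Nat.card_congr e, Nat.card_sigma, Finset.sum_congr rfl fun W _ => natCard_not_mem W.1 (F ∙ v)
    (by rw [Submodule.span_singleton_le_iff_mem]; exact W.2.2),
    Finset.sum_congr rfl fun W _ => by rw [W.2.1.1, finrank_span_singleton hv, pow_one],
    Finset.sum_const, Finset.card_univ, Nat.card_eq_fintype_card, smul_eq_mul]

/-- Total number of planes from the number through a point. -/
theorem natCard_planes {r : ℕ} (hr : ∀ v : V, v ≠ 0 → f v v = 0 →
      Nat.card {W : Submodule F V // IsoPlane f W ∧ v ∈ W} = r) :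
    Nat.card {W : Submodule F V // IsoPlane f W} * (Nat.card F ^ 2 - 1) =
      Nat.card {v : V // f v v = 0 ∧ v ≠ 0} * r := by
  classical
  haveI : Finite V := Module.finite_of_finite F
  haveI : Finite (Submodule F V) := Finite.of_injective _ SetLike.coe_injective
  haveI : Fintype {W : Submodule F V // IsoPlane f W} := Fintype.ofFinite _
  haveI : Fintype {v : V // f v v = 0 ∧ v ≠ 0} := Fintype.ofFinite _
  let e : (Σ W : {W : Submodule F V // IsoPlane f W}, {v : V // v ∈ W.1 ∧ v ∉ (⊥ : Submodule F V)}) ≃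
      (Σ v : {v : V // f v v = 0 ∧ v ≠ 0}, {W : Submodule F V // IsoPlane f W ∧ v.1 ∈ W}) :=
    { toFun := fun p => ⟨⟨p.2.1, p.1.2.2 _ p.2.2.1 _ p.2.2.1, fun h => p.2.2.2 (by simp [h])⟩,
        ⟨p.1.1, p.1.2, p.2.2.1⟩⟩
      invFun := fun p => ⟨⟨p.2.1, p.2.2.1⟩, ⟨p.1.1, p.2.2.2, fun h => p.1.2.2 (by simpa using h)⟩⟩
      left_inv := fun _ => rfl
      right_inv := fun _ => rfl }
  have h := Nat.card_congr e
  rw [Nat.card_sigma, Nat.card_sigma, Finset.sum_congr rfl fun W _ => natCard_not_mem W.1 ⊥ bot_le,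
    Finset.sum_congr rfl fun W _ => by rw [W.2.1, finrank_bot, pow_zero],
    Finset.sum_const] at h
  rw [Finset.sum_congr rfl fun v _ => hr v.1 v.2.2 v.2.1, Finset.sum_const, Finset.card_univ, Finset.card_univ,
    smul_eq_mul, smul_eq_mul] at h
  rwa [Nat.card_eq_fintype_card, Nat.card_eq_fintype_card (α := {v : V // f v v = 0 ∧ v ≠ 0})]

end Cfsg.Agent.Lib.IsoLines
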