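import Cfsg.Agent.Lib.IsoLines.Basic
import Cfsg.Agent.Lib.Forms.Symplectic
import Cfsg.Agent.Lib.Forms.Witt
import Cfsg.Agent.Lib.Classical.UnitaryCount

/-!
Totally isotropic lines of the symplectic and unitary quadrangles.
-/

set_option autoImplicit false
set_option linter.unusedSectionVars false

namespace Cfsg.Agent.Lib.IsoLines

open Cfsg.Agent.Lib

variable {F : Type*} [Field F] [Fintype F]

theorem sesq_sympForm (m : ℕ) : Sesq (Cfsg.sympForm m F) id where
  add_left x x' y := by simp only [← Forms.sympBilin_apply, map_add, LinearMap.add_apply]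
  smul_left c x y := by simp only [← Forms.sympBilin_apply, map_smul, LinearMap.smul_apply, smul_eq_mul]
  add_right x y y' := by simp only [← Forms.sympBilin_apply, map_add]
  smul_right c x y := by simp only [← Forms.sympBilin_apply, map_smul, smul_eq_mul, id_eq]

theorem symp_through {q : ℕ} (hF : Fintype.card F = q) {v : Fin 2 ⊕ Fin 2 → F} (hv : v ≠ 0) :
    Nat.card {W : Submodule F (Fin 2 ⊕ Fin 2 → F) // IsoPlane (Cfsg.sympForm 2 F) W ∧ v ∈ W} = q + 1 := by
  classical
  have hq : Nat.card F = q := by rw [Nat.card_eq_fintype_card, hF]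
  have h2q : 2 ≤ q := hF ▸ Fintype.one_lt_card
  have h := natCard_through (sesq_sympForm (F := F) 2) hv (Forms.sympForm_self v)
  let P : Submodule F (Fin 2 ⊕ Fin 2 → F) := LinearMap.ker ((Forms.sympBilin 2 F) v)
  have hP : Module.finrank F P = 3 := by
    have hr := ((Forms.sympBilin 2 F) v).finrank_range_add_finrank_ker
    have h1 : Module.finrank F (LinearMap.range ((Forms.sympBilin 2 F) v)) = 1 := by
      have hle := (Submodule.finrank_le (LinearMap.range ((Forms.sympBilin 2 F) v))).trans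
        (Module.finrank_self F).le
      have hne : LinearMap.range ((Forms.sympBilin 2 F) v) ≠ ⊥ := fun hbot =>
        hv (Forms.sympBilin_goodForm.nondeg v fun y => by
          rw [LinearMap.range_eq_bot] at hbot
          rw [hbot]; rfl)
      have := Submodule.one_le_finrank_iff.2 hne
      omega
    rw [Module.finrank_fintype_fun_eq_card F] at hr
    simp only [Fintype.card_sum, Fintype.card_fin] at hr
    show Module.finrank F (LinearMap.ker ((Forms.sympBilin 2 F) v)) = 3
    omega
  have hvP : F ∙ v ≤ P := by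
    rw [Submodule.span_singleton_le_iff_mem, LinearMap.mem_ker, Forms.sympBilin_apply]
    exact Forms.sympForm_self v
  rw [Nat.card_congr (Equiv.subtypeEquivRight (q := fun w => w ∈ P ∧ w ∉ (F ∙ v)) fun w => by
    simp only [P, LinearMap.mem_ker, Forms.sympBilin_apply, Forms.sympForm_self, Forms.sympForm_comm w v]
    constructor
    · rintro ⟨⟨h1, -⟩, h2⟩; exact ⟨h1, h2⟩
    · rintro ⟨h1, h2⟩; exact ⟨⟨h1, by rw [h1, neg_zero], trivial⟩, h2⟩),
    natCard_not_mem P _ hvP, hP, finrank_span_singleton hv, pow_one, hq] at h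
  have e : q ^ 3 - q = (q + 1) * (q ^ 2 - q) := by
    zify [Nat.le_self_pow (by norm_num : (2 : ℕ) ≠ 0) q, Nat.le_self_pow (by norm_num : (3 : ℕ) ≠ 0) q]
    ring
  rw [e] at h
  exact Nat.eq_of_mul_eq_mul_right (Nat.sub_pos_of_lt (by nlinarith)) h

theorem sesq_hermForm {q : ℕ} (hF : Fintype.card F = q ^ 2) (n : ℕ) :
    Sesq (Cfsg.hermForm n F q) (fun c => c ^ q) where
  add_left x x' y := by simp only [← Forms.hermSesq_apply hF, map_add]
  smul_left c x y := by simp only [← Forms.hermSesq_apply hF, map_smul, smul_eq_mul]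
  add_right x y y' := by simp only [← Forms.hermSesq_apply hF, map_add, LinearMap.add_apply]
  smul_right c x y := by
    simp only [← Forms.hermSesq_apply hF, LinearMap.map_smulₛₗ, LinearMap.smul_apply, smul_eq_mul,
      Forms.qPowHom_apply]

theorem herm_perp_count {q : ℕ} (hF : Fintype.card F = q ^ 2) (m : ℕ) {v : Fin (m + 2) → F}
    (hv : v ≠ 0) (hvv : Cfsg.hermForm (m + 2) F q v v = 0) :
    Nat.card {w : Fin (m + 2) → F //
      (Cfsg.hermForm (m + 2) F q v w = 0 ∧ Cfsg.hermForm (m + 2) F q w v = 0 ∧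
        Cfsg.hermForm (m + 2) F q w w = 0) ∧ w ∉ (F ∙ v)} + Nat.card F =
      Nat.card F * Nat.card {z : Fin m → F // Cfsg.hermForm m F q z z = 0} := by
  classical
  have hgood := Forms.hermSesq_goodForm (n := m + 2) hF
  have hq := Forms.two_le_of_card_sq hF
  have hh : ∀ x y, Cfsg.hermForm (m + 2) F q x y = 0 → Cfsg.hermForm (m + 2) F q y x = 0 := by
    intro x y h
    rw [← Forms.hermSesq_apply hF] at h ⊢
    exact hgood.eq_zero_symm h
  -- the norm takes the value `-1`
  obtain ⟨a, ha⟩ : ∃ a : F, a ^ (q + 1) = -1 := by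
    have h0 := Classical.natCard_hermForm_zero hF 2
    rw [if_pos (by decide)] at h0
    have hne : ∃ z : {z : Fin 2 → F // Cfsg.hermForm 2 F q z z = 0}, z ≠ ⟨0, by simp [Cfsg.hermForm]⟩ := by
      by_contra hcon
      push Not at hcon
      have : Nat.card {z : Fin 2 → F // Cfsg.hermForm 2 F q z z = 0} = 1 :=
        Nat.card_eq_one_iff_unique.2 ⟨⟨fun x y => (hcon x).trans (hcon y).symm⟩, ⟨⟨0, by simp [Cfsg.hermForm]⟩⟩⟩
      rw [this] at h0
      have h4 : 4 ≤ q ^ 2 := by nlinarith
      have h3 : 1 ≤ q ^ (2 - 1) + 1 := by omega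
      have : 0 < (q ^ 2 - 1) * (q ^ (2 - 1) + 1) := Nat.mul_pos (by omega) (by omega)
      omega
    obtain ⟨⟨z, hz⟩, hz0⟩ := hne
    simp only [Cfsg.hermForm, Fin.sum_univ_two] at hz
    rw [← pow_succ', ← pow_succ'] at hz
    have h0' : z 0 ≠ 0 := fun h0' => by
      rw [h0', zero_pow (by omega), zero_add] at hz
      exact hz0 (Subtype.ext (funext fun i => by
        fin_cases i
        · exact h0'
        · exact eq_zero_of_pow_eq_zero hz))
    refine ⟨z 1 / z 0, ?_⟩
    rw [div_pow, eq_neg_of_add_eq_zero_right hz, neg_div, div_self (pow_ne_zero _ h0')]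
  set v₀ : Fin (m + 2) → F := Fin.cons 1 (Fin.cons a 0) with hv₀
  have hv₀0 : v₀ ≠ 0 := fun h => by simpa [hv₀] using congrFun h 0
  have hv₀v₀ : Cfsg.hermForm (m + 2) F q v₀ v₀ = 0 := by
    simp [hv₀, Cfsg.hermForm, Fin.sum_univ_succ, ← pow_succ', ha]
  obtain ⟨g, hg, hgv⟩ := hgood.witt_family ![v] ![v₀]
    (by rw [linearIndependent_unique_iff]; simpa using hv)
    (by rw [linearIndependent_unique_iff]; simpa using hv₀0)
    (fun i j => by
      fin_cases i; fin_cases j
      simp [hvv, hv₀v₀])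
  have hgv0 : g v = v₀ := hgv 0
  have hgh : ∀ x y, Cfsg.hermForm (m + 2) F q (g x) (g y) = Cfsg.hermForm (m + 2) F q x y := by
    intro x y
    have := hg y x
    simpa using this
  -- the isotropic vectors orthogonal to `v₀`
  let e : {w : Fin (m + 2) → F // Cfsg.hermForm (m + 2) F q w v₀ = 0 ∧ Cfsg.hermForm (m + 2) F q w w = 0} ≃
      F × {z : Fin m → F // Cfsg.hermForm m F q z z = 0} :=
    have haq : a ^ q * a ^ q ^ 2 = -1 := by
      rw [← pow_add, show q + q ^ 2 = (q + 1) * q by ring, pow_mul, ha]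
      have := qPow_neg_one (F := F) hF
      exact this
    have key : ∀ (x y : F) (z : Fin m → F),
        Cfsg.hermForm (m + 2) F q (Fin.cons x (Fin.cons y z)) v₀ = x + y * a ^ q ∧
        Cfsg.hermForm (m + 2) F q (Fin.cons x (Fin.cons y z)) (Fin.cons x (Fin.cons y z)) =
          x * x ^ q + (y * y ^ q + Cfsg.hermForm m F q z z) := fun x y z =>
      ⟨by simp [hv₀, Cfsg.hermForm, Fin.sum_univ_succ, zero_pow (show q ≠ 0 by omega)],
       by simp [Cfsg.hermForm, Fin.sum_univ_succ]⟩
    have hnorm : ∀ y : F, (-(y * a ^ q)) * (-(y * a ^ q)) ^ q = -(y * y ^ q) := fun y => by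
      have hneg : (-(y * a ^ q)) ^ q = -((y * a ^ q) ^ q) := by
        simpa using map_neg (Forms.qPowHom hF) (y * a ^ q)
      rw [hneg, mul_pow, ← pow_mul, ← sq q, neg_mul_neg]
      linear_combination (y * y ^ q) * haq
    { toFun := fun w => (w.1 1, ⟨fun i => w.1 i.succ.succ, by
        have h := key (w.1 0) (w.1 1) (fun i => w.1 i.succ.succ)
        have hc : (Fin.cons (w.1 0) (Fin.cons (w.1 1) fun i => w.1 i.succ.succ) : Fin (m + 2) → F) = w.1 := by
          funext i
          refine Fin.cases ?_ (fun j => ?_) i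
          · rfl
          · refine Fin.cases ?_ (fun k => ?_) j <;> rfl
        rw [hc, w.2.1, w.2.2] at h
        have h0 : w.1 0 = -(w.1 1 * a ^ q) := eq_neg_of_add_eq_zero_left h.1.symm
        have h3 := h.2
        rw [h0, hnorm] at h3
        linear_combination -h3⟩)
      invFun := fun p => ⟨Fin.cons (-(p.1 * a ^ q)) (Fin.cons p.1 p.2.1),
        by rw [(key _ _ _).1]; ring, by rw [(key _ _ _).2, p.2.2, hnorm]; ring⟩
      left_inv := fun w => Subtype.ext (by
        funext i
        refine Fin.cases ?_ (fun j => ?_) i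
        · have h := key (w.1 0) (w.1 1) (fun i => w.1 i.succ.succ)
          have hc : (Fin.cons (w.1 0) (Fin.cons (w.1 1) fun i => w.1 i.succ.succ) : Fin (m + 2) → F) = w.1 := by
            funext i
            refine Fin.cases ?_ (fun j => ?_) i
            · rfl
            · refine Fin.cases ?_ (fun k => ?_) j <;> rfl
          rw [hc, w.2.1] at h
          exact (eq_neg_of_add_eq_zero_left h.1.symm).symm
        · refine Fin.cases ?_ (fun k => ?_) j <;> rfl)
      right_inv := fun p => rfl }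
  have hcount := Nat.card_congr e
  rw [Nat.card_prod] at hcount
  rw [← hcount]
  -- transport along `g` and split off the multiples of `v`
  let A := {w : Fin (m + 2) → F // Cfsg.hermForm (m + 2) F q w v₀ = 0 ∧ Cfsg.hermForm (m + 2) F q w w = 0}
  let eA : {w : Fin (m + 2) → F // Cfsg.hermForm (m + 2) F q w v = 0 ∧ Cfsg.hermForm (m + 2) F q w w = 0} ≃ A :=
    Equiv.subtypeEquiv g.toEquiv fun w => by
      simp only [LinearEquiv.coe_toEquiv]
      rw [← hgv0, hgh, hgh]
  rw [← Nat.card_congr eA]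
  have hin : ∀ w ∈ (F ∙ v), Cfsg.hermForm (m + 2) F q w v = 0 ∧ Cfsg.hermForm (m + 2) F q w w = 0 := by
    intro w hw
    obtain ⟨c, rfl⟩ := Submodule.mem_span_singleton.1 hw
    rw [(sesq_hermForm hF (m + 2)).smul_left, hvv, mul_zero,
      (sesq_hermForm hF (m + 2)).smul_left, (sesq_hermForm hF (m + 2)).smul_right, hvv]
    simp
  have hspan : Nat.card {w : Fin (m + 2) → F // w ∈ (F ∙ v)} = Nat.card F := by
    show Nat.card (F ∙ v) = _
    rw [Module.natCard_eq_pow_finrank (K := F), finrank_span_singleton hv, pow_one]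
  rw [← hspan, Nat.card_eq_fintype_card, Nat.card_eq_fintype_card, Nat.card_eq_fintype_card,
    Fintype.card_subtype, Fintype.card_subtype, Fintype.card_subtype,
    ← Finset.card_union_of_disjoint]
  · congr 1
    ext w
    simp only [Finset.mem_union, Finset.mem_filter, Finset.mem_univ, true_and]
    constructor
    · rintro (⟨⟨-, h1, h2⟩, -⟩ | hw)
      · exact ⟨h1, h2⟩
      · exact hin w hw
    · rintro ⟨h1, h2⟩
      by_cases hw : w ∈ (F ∙ v)
      · exact Or.inr hw
      · exact Or.inl ⟨⟨hh _ _ h1, h1, h2⟩, hw⟩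
  · rw [Finset.disjoint_filter]
    exact fun w _ h => h.2
where
  qPow_neg_one {F : Type _} [Field F] [Fintype F] {q : ℕ} (hF : Fintype.card F = q ^ 2) :
      (-1 : F) ^ q = -1 := by
    simpa using map_neg (Forms.qPowHom hF) (1 : F)

theorem herm_through {q : ℕ} (hF : Fintype.card F = q ^ 2) {m r : ℕ}
    (hr : Nat.card {z : Fin m → F // Cfsg.hermForm m F q z z = 0} = r * (q ^ 2 - 1) + 1)
    {v : Fin (m + 2) → F} (hv : v ≠ 0) (hvv : Cfsg.hermForm (m + 2) F q v v = 0) :
    Nat.card {W : Submodule F (Fin (m + 2) → F) //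
      IsoPlane (Cfsg.hermForm (m + 2) F q) W ∧ v ∈ W} = r := by
  classical
  have hq : Nat.card F = q ^ 2 := by rw [Nat.card_eq_fintype_card, hF]
  have hq2 := Forms.two_le_of_card_sq hF
  have h := natCard_through (sesq_hermForm hF (m + 2)) hv hvv
  have hc := herm_perp_count hF m hv hvv
  rw [hr, hq, ← h, hq] at hc
  have e : (q ^ 2) ^ 2 - q ^ 2 = q ^ 2 * (q ^ 2 - 1) := by rw [Nat.mul_sub_one, sq (q ^ 2)]
  rw [e] at hc
  have hpos : 0 < q ^ 2 * (q ^ 2 - 1) := by
    have : 4 ≤ q ^ 2 := by nlinarith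
    exact Nat.mul_pos (by omega) (by omega)
  refine Nat.eq_of_mul_eq_mul_right hpos ?_
  rw [mul_add, mul_one] at hc
  rw [Nat.add_right_cancel hc]
  ring

end Cfsg.Agent.Lib.IsoLines
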